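import Groth.Agent.H29CSA.Modules
import Mathlib.Algebra.Algebra.Subalgebra.Basic
import Mathlib.Data.Matrix.Basis
import Mathlib.Algebra.Algebra.Opposite
import Mathlib.LinearAlgebra.Projection

/-!
Uniqueness in the Wedderburn theorem.
-/

set_option autoImplicit false
universe u v w

open MulOpposite

namespace Groth.Agent.H29CSA

variable {k : Type u} [Field k]

/-- The left ideal `R e` for the first diagonal matrix unit. -/
noncomputable def colIdeal (D : Type v) [Ring D] (n : ℕ) [NeZero n] :
    Submodule (Matrix (Fin n) (Fin n) D) (Matrix (Fin n) (Fin n) D) :=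
  Submodule.span _ {Matrix.single (0 : Fin n) 0 (1 : D)}

theorem mem_colIdeal_mul {D : Type v} [Ring D] {n : ℕ} [NeZero n]
    {x : Matrix (Fin n) (Fin n) D} (hx : x ∈ colIdeal D n) :
    x * Matrix.single (0 : Fin n) 0 (1 : D) = x := by
  obtain ⟨a, rfl⟩ := Submodule.mem_span_singleton.mp hx
  rw [smul_eq_mul, mul_assoc, Matrix.single_mul_single_same, mul_one]

theorem colIdeal_simple_and_end (D : Type v) [DivisionRing D] [Algebra k D]
    [FiniteDimensional k D] (n : ℕ) [NeZero n] :
    IsSimpleModule (Matrix (Fin n) (Fin n) D) (colIdeal D n) ∧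
      Nonempty (Dᵐᵒᵖ ≃ₐ[k] Module.End (Matrix (Fin n) (Fin n) D) (colIdeal D n)) := by
  classical
  set R := Matrix (Fin n) (Fin n) D
  set e : R := Matrix.single (0 : Fin n) 0 (1 : D) with he
  have hmem : e ∈ colIdeal D n := Submodule.subset_span rfl
  have hclosed : ∀ (d : D) (x : R), x ∈ colIdeal D n →
      x * Matrix.single (0 : Fin n) 0 d ∈ colIdeal D n := by
    intro d x _
    refine Submodule.mem_span_singleton.mpr ⟨x * Matrix.single (0 : Fin n) 0 d, ?_⟩
    rw [smul_eq_mul, mul_assoc, Matrix.single_mul_single_same, mul_one]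
  let Φ : Dᵐᵒᵖ →ₐ[k] Module.End R (colIdeal D n) :=
    { toFun := fun d =>
        { toFun := fun x => ⟨x.1 * Matrix.single (0 : Fin n) 0 d.unop, hclosed _ _ x.2⟩
          map_add' := fun x y => Subtype.ext (by simp [add_mul])
          map_smul' := fun r x => Subtype.ext (by simp [mul_assoc]) }
      map_one' := LinearMap.ext fun x => Subtype.ext (by simpa using mem_colIdeal_mul x.2)
      map_mul' := fun c d => LinearMap.ext fun x => Subtype.ext (by
        simp [mul_assoc, Matrix.single_mul_single_same])
      map_zero' := LinearMap.ext fun x => Subtype.ext (by simp)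
      map_add' := fun c d => LinearMap.ext fun x => Subtype.ext (by
        simp [← mul_add, Matrix.single_add])
      commutes' := fun r => LinearMap.ext fun x => Subtype.ext (by
        simp only [MulOpposite.algebraMap_apply, MulOpposite.unop_op, LinearMap.coe_mk,
          AddHom.coe_mk, Module.algebraMap_end_apply, SetLike.val_smul]
        rw [Algebra.algebraMap_eq_smul_one, ← Matrix.smul_single, Matrix.mul_smul, mem_colIdeal_mul x.2]
        rfl) }
  have hinj : Function.Injective Φ := by
    intro c d h
    have h' := congrArg Subtype.val (LinearMap.congr_fun h ⟨e, hmem⟩)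
    change e * Matrix.single (0 : Fin n) 0 c.unop = e * Matrix.single (0 : Fin n) 0 d.unop at h'
    rw [he, Matrix.single_mul_single_same, Matrix.single_mul_single_same, one_mul, one_mul] at h'
    exact MulOpposite.unop_injective (by simpa using congrFun (congrFun h' 0) 0)
  have hsurj : Function.Surjective Φ := by
    intro f
    set y : R := (f ⟨e, hmem⟩).1 with hy
    have hee : e • (⟨e, hmem⟩ : colIdeal D n) = ⟨e, hmem⟩ :=
      Subtype.ext (show e * e = e by rw [he, Matrix.single_mul_single_same, one_mul])
    have hey : e * y = y := by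
      have := congrArg Subtype.val (f.map_smul e ⟨e, hmem⟩)
      rw [hee] at this
      exact this.symm
    have hye : y * e = y := mem_colIdeal_mul (f ⟨e, hmem⟩).2
    refine ⟨op (y 0 0), LinearMap.ext fun x => Subtype.ext ?_⟩
    obtain ⟨a, ha⟩ := Submodule.mem_span_singleton.mp x.2
    have hx : x = a • (⟨e, hmem⟩ : colIdeal D n) := Subtype.ext ha.symm
    have hxy : (f x).1 = a * y := by rw [hx, map_smul]; rfl
    have hval : x.1 = a * e := ha.symm
    change x.1 * Matrix.single (0 : Fin n) 0 (y 0 0) = (f x).1
    rw [hxy, hval, mul_assoc]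
    congr 1
    calc e * Matrix.single (0 : Fin n) 0 (y 0 0)
        = Matrix.single (0 : Fin n) 0 (y 0 0) := by
          rw [he, Matrix.single_mul_single_same, one_mul]
      _ = e * y * e := by rw [he, Matrix.single_mul_mul_single, one_mul, mul_one]
      _ = y := by rw [hey, hye]
  let eΦ := AlgEquiv.ofBijective Φ ⟨hinj, hsurj⟩
  refine ⟨?_, ⟨eΦ⟩⟩
  haveI : Nontrivial (colIdeal D n) := ⟨⟨e, hmem⟩, 0, fun h => by
    have := congrFun (congrFun (congrArg Subtype.val h) 0) 0
    simp [he] at this⟩
  haveI : IsArtinianRing R := IsArtinianRing.of_finite k R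
  have hP : ∀ P : Submodule R (colIdeal D n), P = ⊥ ∨ P = ⊤ := by
    intro P
    obtain ⟨Q, hQ⟩ := exists_isCompl P
    let p : Module.End R (colIdeal D n) := P.projection Q hQ
    obtain ⟨d, hd⟩ := hsurj p
    have hpp : p * p = p := LinearMap.ext fun x =>
      show p (p x) = p x from
        Submodule.projection_apply_left hQ ⟨_, Submodule.projection_apply_mem hQ x⟩
    have hd2 : d * d = d := hinj (by rw [map_mul, hd]; exact hpp)
    rcases eq_or_ne d 0 with h0 | h0
    · left
      rw [h0, map_zero] at hd
      rw [Submodule.eq_bot_iff]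
      intro x hx
      have := Submodule.projection_apply_left hQ ⟨x, hx⟩
      rw [show P.projection Q hQ = p from rfl, ← hd] at this
      simpa using this.symm
    · right
      have : d = 1 := mul_left_cancel₀ h0 (hd2.trans (mul_one d).symm)
      rw [this, map_one] at hd
      rw [Submodule.eq_top_iff']
      intro x
      have := Submodule.projection_apply_mem hQ x
      rwa [show P.projection Q hQ = p from rfl, ← hd, Module.End.one_apply] at this
  exact { eq_bot_or_eq_top := hP }

theorem nonempty_algEquiv_of_matrix (D : Type v) [DivisionRing D] [Algebra k D]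
    [FiniteDimensional k D] (D' : Type w) [DivisionRing D'] [Algebra k D'] [FiniteDimensional k D']
    (n m : ℕ) (hn : n ≠ 0) (hm : m ≠ 0)
    (e : Matrix (Fin n) (Fin n) D ≃ₐ[k] Matrix (Fin m) (Fin m) D') : Nonempty (D ≃ₐ[k] D') := by
  haveI : NeZero n := ⟨hn⟩
  haveI : NeZero m := ⟨hm⟩
  obtain ⟨hS, ⟨φ⟩⟩ := colIdeal_simple_and_end (k := k) D n
  obtain ⟨hS', ⟨φ'⟩⟩ := colIdeal_simple_and_end (k := k) D' m
  set R := Matrix (Fin n) (Fin n) D
  set R' := Matrix (Fin m) (Fin m) D'
  set I := colIdeal D n
  set I' := colIdeal D' m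
  -- transport `I'` to an `R`-module along `e`
  let J : Submodule R R :=
    { carrier := {x | e x ∈ I'}
      add_mem' := fun {a b} ha hb => by simpa using I'.add_mem ha hb
      zero_mem' := by simp
      smul_mem' := fun c x hx => by simpa using I'.smul_mem (e c) hx }
  have hJle : ∀ P : Submodule R J, P = ⊥ ∨ P = ⊤ := by
    intro P
    let P' : Submodule R' I' :=
      { carrier := {x | (⟨e.symm x.1, by simp [J]⟩ : J) ∈ P}
        add_mem' := fun {a b} ha hb => by
          simpa using P.add_mem ha hb
        zero_mem' := by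
          show (⟨e.symm (0 : I').1, _⟩ : J) ∈ P
          convert P.zero_mem
          simp
        smul_mem' := fun c x hx => by
          have := P.smul_mem (e.symm c) hx
          simpa using this }
    rcases hS'.eq_bot_or_eq_top P' with h | h
    · left
      rw [Submodule.eq_bot_iff]
      intro x hx
      have : (⟨e x.1, x.2⟩ : I') ∈ P' := by simpa [P'] using hx
      rw [h, Submodule.mem_bot] at this
      apply Subtype.ext
      simpa using congrArg Subtype.val this
    · right
      rw [Submodule.eq_top_iff']
      intro x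
      have : (⟨e x.1, x.2⟩ : I') ∈ P' := by rw [h]; trivial
      simpa [P'] using this
  haveI := hS'.nontrivial
  haveI : Nontrivial J := by
    obtain ⟨x, hx⟩ := exists_ne (0 : I')
    refine ⟨⟨⟨e.symm x.1, by simp [J]⟩, 0, fun h => hx (Subtype.ext ?_)⟩⟩
    simpa using congrArg Subtype.val h
  haveI : IsSimpleModule R J := { eq_bot_or_eq_top := hJle }
  haveI := hS
  haveI : IsArtinianRing R := IsArtinianRing.of_finite k R
  obtain ⟨g⟩ := IsSimpleRing.isIsotypic R R I J
  -- endomorphism algebras
  have hJmem : ∀ x : I', e.symm x.1 ∈ J := fun x => show e (e.symm x.1) ∈ I' by simp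
  let ψ : Module.End R J →ₐ[k] Module.End R' I' :=
    { toFun := fun f =>
        { toFun := fun x => ⟨e (f ⟨e.symm x.1, hJmem x⟩).1, (f ⟨e.symm x.1, hJmem x⟩).2⟩
          map_add' := fun x y => Subtype.ext (by
            rw [show (⟨e.symm (x + y).1, hJmem _⟩ : J) =
              ⟨e.symm x.1, hJmem x⟩ + ⟨e.symm y.1, hJmem y⟩ from Subtype.ext (by simp), map_add]
            simp)
          map_smul' := fun c x => Subtype.ext (by
            rw [show (⟨e.symm (c • x).1, hJmem _⟩ : J) =
              e.symm c • ⟨e.symm x.1, hJmem x⟩ from Subtype.ext (by simp), map_smul]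
            simp) }
      map_one' := LinearMap.ext fun x => Subtype.ext (by simp)
      map_mul' := fun f g => LinearMap.ext fun x => Subtype.ext (by simp)
      map_zero' := LinearMap.ext fun x => Subtype.ext (by simp)
      map_add' := fun f g => LinearMap.ext fun x => Subtype.ext (by simp)
      commutes' := fun r => LinearMap.ext fun x => Subtype.ext (by
        simp [Module.algebraMap_end_apply]) }
  have hψ : Function.Bijective ψ := by
    refine ⟨fun f f' h => LinearMap.ext fun x => Subtype.ext (e.injective ?_), fun f => ?_⟩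
    · have := congrArg Subtype.val (LinearMap.congr_fun h ⟨e x.1, x.2⟩)
      simpa [ψ] using this
    · refine ⟨{ toFun := fun x => ⟨e.symm (f ⟨e x.1, x.2⟩).1, by simp [J]⟩
                map_add' := fun x y => Subtype.ext (by
                  rw [show (⟨e (x + y).1, (x + y).2⟩ : I') = ⟨e x.1, x.2⟩ + ⟨e y.1, y.2⟩ from
                    Subtype.ext (by simp), map_add]
                  simp)
                map_smul' := fun c x => Subtype.ext (by
                  rw [show (⟨e (c • x).1, (c • x).2⟩ : I') = e c • ⟨e x.1, x.2⟩ from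
                    Subtype.ext (by simp), map_smul]
                  simp) }, LinearMap.ext fun x => Subtype.ext ?_⟩
      simp [ψ]
  let E : Dᵐᵒᵖ ≃ₐ[k] D'ᵐᵒᵖ :=
    φ.trans ((g.symm.conjAlgEquiv k).trans ((AlgEquiv.ofBijective ψ hψ).trans φ'.symm))
  exact ⟨AlgEquiv.op.symm E⟩

end Groth.Agent.H29CSA
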