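import Groth.Agent.H29CSA.Centralizer
import Groth.Agent.H29CSA.MatrixUnique
import Groth.Prelude.Def_Curves
import Mathlib.RingTheory.SimpleModule.IsAlgClosed
import Mathlib.RingTheory.MatrixAlgebra
import Mathlib.Data.Matrix.Composition
import Mathlib.RingTheory.TensorProduct.Finite
import Mathlib.RingTheory.TensorProduct.Free
import Mathlib.RingTheory.Flat.FaithfullyFlat.Basic
import Mathlib.FieldTheory.IsAlgClosed.AlgebraicClosure
import Mathlib.RingTheory.SimpleRing.Matrix
import Mathlib.Algebra.Central.Matrix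

/-!
Splitting fields of central simple algebras.
-/

set_option autoImplicit false
universe u v w w'

open TensorProduct MulOpposite

namespace Groth.Agent.H29CSA

variable {k : Type u} [Field k]

/-- An algebra map out of a simple algebra between algebras of equal dimension. -/
noncomputable def equivOfFinrankEq {K : Type u} [Field K] {R : Type v} [Ring R] [Algebra K R]
    [IsSimpleRing R] [FiniteDimensional K R] {S : Type w} [Ring S] [Algebra K S] [Nontrivial S]
    [FiniteDimensional K S] (f : R →ₐ[K] S) (h : Module.finrank K R = Module.finrank K S) :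
    R ≃ₐ[K] S :=
  AlgEquiv.ofBijective f ⟨f.toRingHom.injective,
    (LinearMap.injective_iff_surjective_of_finrank_eq_finrank (f := f.toLinearMap) h).mp
      f.toRingHom.injective⟩

section matrix

variable (A : Type v) [Ring A] [Algebra k A] (K : Type w) [Field K] [Algebra k K]

/-- Base change commutes with matrices. -/
theorem nonempty_baseChange_matrix (n : ℕ) :
    Nonempty (K ⊗[k] Matrix (Fin n) (Fin n) A ≃ₐ[K] Matrix (Fin n) (Fin n) (K ⊗[k] A)) := by
  classical
  let e0 : K ⊗[k] Matrix (Fin n) (Fin n) A ≃ₐ[k] Matrix (Fin n) (Fin n) (K ⊗[k] A) :=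
    (Algebra.TensorProduct.congr AlgEquiv.refl (matrixEquivTensor (Fin n) k A)).trans
      ((Algebra.TensorProduct.assoc k k k K A (Matrix (Fin n) (Fin n) k)).symm.trans
        (matrixEquivTensor (Fin n) k (K ⊗[k] A)).symm)
  refine ⟨AlgEquiv.ofRingEquiv (f := e0.toRingEquiv) fun c => ?_⟩
  show e0 (c ⊗ₜ[k] (1 : Matrix (Fin n) (Fin n) A)) = _
  simp only [e0, AlgEquiv.trans_apply, Algebra.TensorProduct.congr_apply, Algebra.TensorProduct.map_tmul,
    AlgEquiv.coe_algHom, AlgEquiv.coe_refl, id_eq]
  rw [map_one, Algebra.TensorProduct.one_def, Algebra.TensorProduct.assoc_symm_tmul,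
    matrixEquivTensor_apply_symm]
  ext i j
  simp [Matrix.one_apply, Matrix.algebraMap_matrix_apply]

/-- Matrices over a split algebra. -/
theorem splits_matrix (r : ℕ) (hr : r ≠ 0) (h : Curves.Splits k A K) :
    Curves.Splits k (Matrix (Fin r) (Fin r) A) K := by
  obtain ⟨n, hn, ⟨e⟩⟩ := h
  obtain ⟨e'⟩ := nonempty_baseChange_matrix (k := k) A K r
  let e1 : Matrix (Fin r) (Fin r) (K ⊗[k] A) ≃ₐ[K] Matrix (Fin r) (Fin r) (Matrix (Fin n) (Fin n) K) :=
    e.mapMatrix
  let e2 : Matrix (Fin r) (Fin r) (Matrix (Fin n) (Fin n) K) ≃ₐ[K] Matrix (Fin r × Fin n) (Fin r × Fin n) K :=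
    Matrix.compAlgEquiv (Fin r) (Fin n) K K
  exact ⟨r * n, mul_ne_zero hr hn, ⟨e'.trans (e1.trans
    (e2.trans (Matrix.reindexAlgEquiv K K finProdFinEquiv)))⟩⟩

end matrix

section congr

variable {A : Type v} [Ring A] [Algebra k A] {B : Type w'} [Ring B] [Algebra k B]
  {K : Type w} [Field K] [Algebra k K]

theorem splits_congr (e : A ≃ₐ[k] B) (h : Curves.Splits k A K) : Curves.Splits k B K := by
  obtain ⟨n, hn, ⟨f⟩⟩ := h
  exact ⟨n, hn, ⟨(Algebra.TensorProduct.congr AlgEquiv.refl e.symm).trans f⟩⟩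

end congr

section csa

variable (A : Type v) [Ring A] [Algebra k A]

theorem baseChange_isSimpleRing [IsSimpleRing A] [Algebra.IsCentral k A] (K : Type w) [Field K]
    [Algebra k K] : IsSimpleRing (K ⊗[k] A) :=
  tensor_isSimpleRing k K A

theorem exists_splits_of_isAlgClosed [IsSimpleRing A] [Algebra.IsCentral k A]
    [FiniteDimensional k A] (K : Type w) [Field K] [Algebra k K] [IsAlgClosed K] :
    Curves.Splits k A K := by
  haveI := baseChange_isSimpleRing (k := k) A K
  obtain ⟨n, hn, e⟩ := IsSimpleRing.exists_algEquiv_matrix_of_isAlgClosed K (K ⊗[k] A)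
  exact ⟨n, hn.ne, e⟩

theorem finrank_eq_sq_of_splits (K : Type w) [Field K] [Algebra k K] {n : ℕ}
    (e : K ⊗[k] A ≃ₐ[K] Matrix (Fin n) (Fin n) K) : Module.finrank k A = n ^ 2 := by
  have h := e.toLinearEquiv.finrank_eq
  rw [Module.finrank_baseChange, Module.finrank_matrix, Fintype.card_fin, Module.finrank_self,
    mul_one] at h
  rw [h, pow_two]

theorem finrank_isSquare [IsSimpleRing A] [Algebra.IsCentral k A] [FiniteDimensional k A] :
    IsSquare (Module.finrank k A) := by
  obtain ⟨n, -, ⟨e⟩⟩ := exists_splits_of_isAlgClosed (k := k) A (AlgebraicClosure k)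
  exact ⟨n, by rw [finrank_eq_sq_of_splits A _ e, pow_two]⟩

theorem csa_of_splits (K : Type w) [Field K] [Algebra k K] (h : Curves.Splits k A K) :
    Algebra.IsCentral k A ∧ IsSimpleRing A ∧ FiniteDimensional k A := by
  classical
  obtain ⟨n, hn, ⟨e⟩⟩ := h
  haveI : NeZero n := ⟨hn⟩
  haveI : Module.Finite K (K ⊗[k] A) := Module.Finite.equiv e.toLinearEquiv.symm
  have hfin : FiniteDimensional k A := by
    let b := Module.Free.chooseBasis k A
    haveI : Finite (Module.Free.ChooseBasisIndex k A) :=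
      Module.Finite.finite_basis (Algebra.TensorProduct.basis K b)
    exact Module.Finite.of_basis b
  have hsimple : IsSimpleRing (K ⊗[k] A) :=
    IsSimpleRing.of_ringEquiv e.symm.toRingEquiv inferInstance
  haveI : Algebra.IsCentral K (K ⊗[k] A) := ⟨fun x hx => by
    obtain ⟨c, hc⟩ := (Algebra.IsCentral.mem_center_iff K).mp
      (Subalgebra.mem_center_iff.mpr fun y => by
        simpa using congrArg e (Subalgebra.mem_center_iff.mp hx (e.symm y)) :
        e x ∈ Subalgebra.center K (Matrix (Fin n) (Fin n) K))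
    exact Algebra.mem_bot.mpr ⟨c, e.injective (by rw [AlgEquiv.commutes]; exact hc.symm)⟩⟩
  haveI : Nontrivial A := by
    by_contra hA
    rw [not_nontrivial_iff_subsingleton] at hA
    haveI : Subsingleton (K ⊗[k] A) := inferInstance
    exact not_subsingleton (K ⊗[k] A) this
  refine ⟨⟨fun a ha => ?_⟩, IsSimpleRing.of_eq_bot_or_eq_top fun I => ?_, hfin⟩
  · have hc : (1 : K) ⊗ₜ[k] a ∈ Subalgebra.center K (K ⊗[k] A) := by
      rw [Subalgebra.mem_center_iff]
      intro x
      induction x using TensorProduct.induction_on with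
      | zero => simp
      | tmul c b =>
        rw [Algebra.TensorProduct.tmul_mul_tmul, Algebra.TensorProduct.tmul_mul_tmul, one_mul,
          mul_one, (Subalgebra.mem_center_iff.mp ha b)]
      | add p q hp hq => rw [add_mul, mul_add, hp, hq]
    obtain ⟨c, hc⟩ := (Algebra.IsCentral.mem_center_iff K).mp hc
    by_contra hane
    have hli : LinearIndependent k ![(1 : A), a] := by
      rw [LinearIndependent.pair_iff' one_ne_zero]
      intro r hr
      exact hane (Algebra.mem_bot.mpr ⟨r, by rw [Algebra.algebraMap_eq_smul_one, hr]⟩)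
    -- extend `1, a` to a basis of `A`
    obtain ⟨f, hf⟩ : ∃ f : A →ₗ[k] k, f 1 = 0 ∧ f a = 1 := by
      obtain ⟨g, hg⟩ := LinearMap.exists_extend (f := (Finsupp.lift _ k (Fin 2) ![(0 : k), 1]) ∘ₗ
        hli.repr)
      refine ⟨g, ?_, ?_⟩
      · have := LinearMap.congr_fun hg ⟨1, Submodule.subset_span ⟨0, rfl⟩⟩
        simp only [LinearMap.comp_apply, Submodule.subtype_apply] at this
        rw [this, hli.repr_eq_single 0 _ rfl]
        simp
      · have := LinearMap.congr_fun hg ⟨a, Submodule.subset_span ⟨1, rfl⟩⟩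
        simp only [LinearMap.comp_apply, Submodule.subtype_apply] at this
        rw [this, hli.repr_eq_single 1 _ rfl]
        simp
    have := congrArg (TensorProduct.AlgebraTensorModule.map (LinearMap.id : K →ₗ[K] K) f) hc
    simp [Algebra.TensorProduct.algebraMap_apply, hf.1, hf.2] at this
  · by_contra hI
    push Not at hI
    obtain ⟨hb, ht⟩ := hI
    let π := I.ringCon.mk'
    haveI : Nontrivial I.ringCon.Quotient := by
      refine nontrivial_of_ne (π 1) (π 0) fun h => ht ?_
      rw [← TwoSidedIdeal.one_mem_iff, TwoSidedIdeal.mem_iff]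
      exact Quotient.exact h
    let πA : A →ₐ[k] I.ringCon.Quotient := AlgHom.mk π (fun r => rfl)
    let Φ : K ⊗[k] A →ₐ[K] K ⊗[k] I.ringCon.Quotient :=
      Algebra.TensorProduct.map (AlgHom.id K K) πA
    haveI : Nontrivial (K ⊗[k] I.ringCon.Quotient) :=
      Algebra.TensorProduct.nontrivial_of_algebraMap_injective_of_flat_left k K _
        (algebraMap k I.ringCon.Quotient).injective
    have hΦ := Φ.toRingHom.injective
    obtain ⟨x, hx, hx0⟩ : ∃ x ∈ I, x ≠ 0 := by
      by_contra h
      push Not at h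
      exact hb (TwoSidedIdeal.ext fun x => ⟨fun hx => by simp [h x hx], fun hx => by
        rw [TwoSidedIdeal.mem_bot] at hx; rw [hx]; exact I.zero_mem⟩)
    have h1 : Φ ((1 : K) ⊗ₜ[k] x) = Φ 0 := by
      rw [map_zero]
      have : πA x = 0 := Quotient.sound ((TwoSidedIdeal.mem_iff _ _).mp hx)
      simp [Φ, this]
    have h2 : (1 : K) ⊗ₜ[k] x = 0 := hΦ h1
    exact hx0 ((Algebra.TensorProduct.includeRight_injective (R := k) (A := K) (B := A)
      (algebraMap k K).injective) (by simpa using h2))

theorem splits_mono {A : Type v} [Ring A] [Algebra k A] {K : Type w} [Field K] [Algebra k K]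
    {L : Type w'} [Field L] [Algebra k L] [Algebra K L] [IsScalarTower k K L]
    (h : Curves.Splits k A K) : Curves.Splits k A L := by
  obtain ⟨hc, hs, hfd⟩ := csa_of_splits A K h
  obtain ⟨n, hn, ⟨e⟩⟩ := h
  haveI : NeZero n := ⟨hn⟩
  haveI := baseChange_isSimpleRing (k := k) A L
  let f : A →ₐ[k] Matrix (Fin n) (Fin n) L :=
    ((IsScalarTower.toAlgHom k K L).mapMatrix).comp
      ((e.toAlgHom.restrictScalars k).comp Algebra.TensorProduct.includeRight)
  let ψ : L ⊗[k] A →ₐ[L] Matrix (Fin n) (Fin n) L :=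
    Algebra.TensorProduct.lift (Algebra.ofId L _) f (fun l a => Algebra.commutes l (f a))
  exact ⟨n, hn, ⟨equivOfFinrankEq ψ (by
    rw [Module.finrank_baseChange, finrank_eq_sq_of_splits A K e, Module.finrank_matrix,
      Fintype.card_fin, Module.finrank_self, mul_one, pow_two])⟩⟩

end csa

end Groth.Agent.H29CSA
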