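import Mathlib.RingTheory.SimpleModule.WedderburnArtin
import Mathlib.RingTheory.SimpleRing.Matrix
import Mathlib.RingTheory.SimpleRing.Congr
import Mathlib.LinearAlgebra.FiniteDimensional.Basic
import Mathlib.LinearAlgebra.Matrix.ToLin
import Mathlib.LinearAlgebra.Dimension.Constructions
import Mathlib.RingTheory.Artinian.Module
import Mathlib.RingTheory.Finiteness.Basic
import Mathlib.LinearAlgebra.FreeModule.Finite.Matrix

/-!
Modules over simple finite-dimensional algebras.
-/

set_option autoImplicit false
universe u v w w'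

namespace Groth.Agent.H29CSA

variable (k : Type u) [Field k] (R : Type v) [Ring R] [Algebra k R] [IsSimpleRing R]
  [FiniteDimensional k R]

include k in
/-- Every finite module is a power of the one simple module. -/
theorem exists_equiv_fin_fun (M : Type w) [AddCommGroup M] [Module R M] [Module.Finite R M]
    (S : Type v) [AddCommGroup S] [Module R S] [IsSimpleModule R S] :
    ∃ n : ℕ, Nonempty (M ≃ₗ[R] Fin n → S) := by
  haveI := IsArtinianRing.of_finite k R
  obtain ⟨f, hf⟩ : ∃ f : R →ₗ[R] S, Function.Surjective f := by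
    haveI := IsSimpleModule.nontrivial R S
    obtain ⟨s, hs⟩ := exists_ne (0 : S)
    exact ⟨LinearMap.toSpanSingleton R S s, IsSimpleModule.toSpanSingleton_surjective R hs⟩
  -- embed `S` into `R` as it is a quotient of a semisimple module
  obtain ⟨C, hC⟩ := exists_isCompl (LinearMap.ker f)
  have eS : C ≃ₗ[R] S :=
    ((Submodule.quotientEquivOfIsCompl _ _ hC).symm.trans
      (f.quotKerEquivOfSurjective hf))
  have hM : IsIsotypicOfType R M S := by
    intro m _
    obtain ⟨g, hg⟩ : ∃ g : R →ₗ[R] m, Function.Surjective g := by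
      haveI := IsSimpleModule.nontrivial R m
      obtain ⟨s, hs⟩ := exists_ne (0 : m)
      exact ⟨LinearMap.toSpanSingleton R m s, IsSimpleModule.toSpanSingleton_surjective R hs⟩
    obtain ⟨C', hC'⟩ := exists_isCompl (LinearMap.ker g)
    have em : C' ≃ₗ[R] m :=
      ((Submodule.quotientEquivOfIsCompl _ _ hC').symm.trans
        (g.quotKerEquivOfSurjective hg))
    haveI : IsSimpleModule R C := IsSimpleModule.congr eS
    haveI : IsSimpleModule R C' := IsSimpleModule.congr em
    obtain ⟨e⟩ := IsSimpleRing.isIsotypic R R C C'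
    exact ⟨(em.symm.trans e).trans eS⟩
  exact hM.linearEquiv_fun

include k in
theorem exists_simple : ∃ (S : Submodule R R), IsSimpleModule R S := by
  haveI := IsArtinianRing.of_finite k R
  obtain ⟨S, hS⟩ := IsAtomic.exists_atom (Submodule R R)
  exact ⟨S, isSimpleModule_iff_isAtom.mpr hS⟩

variable (M : Type w) [AddCommGroup M] [Module R M] [Module k M] [IsScalarTower k R M]
  [FiniteDimensional k M]

/-- Modules of the same dimension are isomorphic. -/
theorem nonempty_equiv_of_finrank_eq (N : Type w') [AddCommGroup N] [Module R N] [Module k N]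
    [IsScalarTower k R N] [FiniteDimensional k N]
    (h : Module.finrank k M = Module.finrank k N) : Nonempty (M ≃ₗ[R] N) := by
  obtain ⟨S, hS⟩ := exists_simple k R
  haveI := hS
  haveI : Module.Finite R M := Module.Finite.of_restrictScalars_finite k R M
  haveI : Module.Finite R N := Module.Finite.of_restrictScalars_finite k R N
  obtain ⟨m, ⟨e⟩⟩ := exists_equiv_fin_fun k R M S
  obtain ⟨n, ⟨e'⟩⟩ := exists_equiv_fin_fun k R N S
  haveI : FiniteDimensional k S :=
    FiniteDimensional.finiteDimensional_submodule (S.restrictScalars k)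
  haveI := IsSimpleModule.nontrivial R S
  have h1 := (e.restrictScalars k).finrank_eq
  have h2 := (e'.restrictScalars k).finrank_eq
  rw [Module.finrank_pi_fintype] at h1 h2
  simp only [Finset.sum_const, Finset.card_univ, Fintype.card_fin, smul_eq_mul] at h1 h2
  have hpos : 0 < Module.finrank k S := Module.finrank_pos
  have : m = n := Nat.eq_of_mul_eq_mul_right hpos (h1.symm.trans (h.trans h2))
  subst this
  exact ⟨e.trans e'.symm⟩

/-- The endomorphism algebra of a nonzero module is simple, and `dim End * dim R = (dim M) ^ 2`. -/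
theorem end_isSimpleRing_and_finrank [Nontrivial M] [SMulCommClass R k M] :
    IsSimpleRing (Module.End R M) ∧
      Module.finrank k (Module.End R M) * Module.finrank k R = Module.finrank k M ^ 2 := by
  classical
  obtain ⟨S, hS⟩ := exists_simple k R
  haveI := hS
  haveI : Module.Finite R M := Module.Finite.of_restrictScalars_finite k R M
  obtain ⟨m, ⟨e⟩⟩ := exists_equiv_fin_fun k R M S
  obtain ⟨r, ⟨eR⟩⟩ := exists_equiv_fin_fun k R R S
  haveI : FiniteDimensional k S :=
    FiniteDimensional.finiteDimensional_submodule (S.restrictScalars k)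
  haveI := IsSimpleModule.nontrivial R S
  haveI : NeZero m := ⟨by rintro rfl; exact not_subsingleton M e.toEquiv.subsingleton⟩
  letI : DivisionRing (Module.End R S) := Module.End.instDivisionRing
  let eE : Module.End R M ≃ₐ[k] Matrix (Fin m) (Fin m) (Module.End R S) :=
    (e.conjAlgEquiv k).trans (endVecAlgEquivMatrixEnd ..)
  let eR' : Rᵐᵒᵖ ≃ₐ[k] Matrix (Fin r) (Fin r) (Module.End R S) :=
    (AlgEquiv.moduleEndSelf k).trans ((eR.conjAlgEquiv k).trans (endVecAlgEquivMatrixEnd ..))
  refine ⟨IsSimpleRing.of_ringEquiv eE.symm.toRingEquiv inferInstance, ?_⟩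
  have h1 := (e.restrictScalars k).finrank_eq
  have h2 := (eR.restrictScalars k).finrank_eq
  rw [Module.finrank_pi_fintype] at h1 h2
  simp only [Finset.sum_const, Finset.card_univ, Fintype.card_fin, smul_eq_mul] at h1 h2
  have h3 := eE.toLinearEquiv.finrank_eq
  have h4 := eR'.toLinearEquiv.finrank_eq
  rw [Module.finrank_matrix] at h3 h4
  rw [← (MulOpposite.opLinearEquiv k).finrank_eq (M := R)] at h4
  simp only [Fintype.card_fin] at h3 h4
  have hr : 0 < r := by
    refine Nat.pos_of_ne_zero ?_
    rintro rfl
    exact not_subsingleton R eR.toEquiv.subsingleton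
  rw [h3, h1]
  -- dim R = r^2 dim E = r dim S
  have hS' : Module.finrank k S = r * Module.finrank k (Module.End R S) :=
    Nat.eq_of_mul_eq_mul_left hr (by rw [← mul_assoc, ← h4, h2])
  rw [h2, hS']
  ring

end Groth.Agent.H29CSA
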