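import Groth.Agent.H29CSA.Basic
import Groth.Agent.H29CSA.Modules
import Mathlib.Algebra.Algebra.Subalgebra.Basic
import Mathlib.Algebra.Algebra.Bilinear

/-!
Skolem–Noether and the centralizer theorem.
-/

set_option autoImplicit false
universe u v w

open TensorProduct MulOpposite

namespace Groth.Agent.H29CSA

variable {k : Type u} [Field k] {A : Type v} [Ring A] [Algebra k A] {B : Type w} [Ring B]
  [Algebra k B]

/-- `A` as a `B`-`A`-bimodule through `f`. -/
def Twist (_f : B →ₐ[k] A) : Type v := A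

instance (f : B →ₐ[k] A) : AddCommGroup (Twist f) := inferInstanceAs (AddCommGroup A)
instance (f : B →ₐ[k] A) : Module k (Twist f) := inferInstanceAs (Module k A)
instance [FiniteDimensional k A] (f : B →ₐ[k] A) : FiniteDimensional k (Twist f) :=
  inferInstanceAs (FiniteDimensional k A)
instance [Nontrivial A] (f : B →ₐ[k] A) : Nontrivial (Twist f) := inferInstanceAs (Nontrivial A)

/-- The action `(b ⊗ a) • x = f b * x * a` as an algebra map. -/
noncomputable def bimodHom (f : B →ₐ[k] A) : B ⊗[k] Aᵐᵒᵖ →ₐ[k] Module.End k A :=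
  (AlgHom.mulLeftRight k A).comp (Algebra.TensorProduct.map f (AlgHom.id k Aᵐᵒᵖ))

theorem bimodHom_tmul (f : B →ₐ[k] A) (b : B) (a : Aᵐᵒᵖ) (x : A) :
    bimodHom f (b ⊗ₜ[k] a) x = f b * x * a.unop := by
  simp [bimodHom]

noncomputable instance (f : B →ₐ[k] A) : Module (B ⊗[k] Aᵐᵒᵖ) (Twist f) :=
  Module.compHom A (bimodHom f).toRingHom

/-- The identity map `Twist f → A`. -/
def toA {f : B →ₐ[k] A} : Twist f ≃ₗ[k] A := LinearEquiv.refl k A

theorem toA_smul {f : B →ₐ[k] A} (r : B ⊗[k] Aᵐᵒᵖ) (x : Twist f) :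
    toA (r • x) = bimodHom f r (toA x) := rfl

theorem smul_eq {f : B →ₐ[k] A} (b : B) (a x : A) :
    (b ⊗ₜ[k] op a) • (toA (f := f)).symm x = (toA (f := f)).symm (f b * x * a) := by
  apply (toA (f := f)).injective
  rw [toA_smul, bimodHom_tmul, LinearEquiv.apply_symm_apply, LinearEquiv.apply_symm_apply, unop_op]

instance (f : B →ₐ[k] A) : IsScalarTower k (B ⊗[k] Aᵐᵒᵖ) (Twist f) :=
  ⟨fun c r x => LinearMap.congr_fun ((bimodHom f).toLinearMap.map_smul c r) (x : A)⟩

instance (f : B →ₐ[k] A) : SMulCommClass (B ⊗[k] Aᵐᵒᵖ) k (Twist f) :=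
  ⟨fun r c x => (bimodHom f r).map_smul c (x : A)⟩

variable [IsSimpleRing A] [Algebra.IsCentral k A] [FiniteDimensional k A] [IsSimpleRing B]

theorem finite_of_algHom (f : B →ₐ[k] A) : FiniteDimensional k B :=
  FiniteDimensional.of_injective f.toLinearMap f.toRingHom.injective

theorem skolem_noether (f g : B →ₐ[k] A) :
    ∃ x : Aˣ, ∀ b : B, f b = (x : A) * g b * (x⁻¹ : Aˣ) := by
  haveI := finite_of_algHom f
  haveI := tensor_isSimpleRing k B Aᵐᵒᵖ
  obtain ⟨φ⟩ := nonempty_equiv_of_finrank_eq k (B ⊗[k] Aᵐᵒᵖ) (Twist g) (Twist f) (by rfl)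
  let ψ : A → A := fun x => toA (φ ((toA (f := g)).symm x))
  have hψ : ∀ (b : B) (a x : A), ψ (g b * x * a) = f b * ψ x * a := by
    intro b a x
    simp only [ψ, ← smul_eq, map_smul, toA_smul, bimodHom_tmul, unop_op]
  have hlin : ∀ x, ψ x = ψ 1 * x := fun x => by
    simpa using hψ 1 x 1
  obtain ⟨y, hy⟩ := φ.surjective ((toA (f := f)).symm 1)
  have hy' : ψ 1 * toA y = 1 := by
    rw [← hlin]
    simp [ψ, hy]
  haveI : IsArtinianRing A := IsArtinianRing.of_finite k A
  have hu : IsUnit (ψ 1) := IsUnit.of_mul_eq_one _ hy'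
  refine ⟨hu.unit, fun b => ?_⟩
  have hb : f b * ψ 1 = ψ 1 * g b := by
    have := hψ b 1 1
    rw [mul_one, mul_one, mul_one, hlin (g b)] at this
    exact this.symm
  rw [IsUnit.unit_spec, ← hb, mul_assoc, IsUnit.mul_val_inv, mul_one]

/-- Endomorphisms of the bimodule are the centralizer. -/
noncomputable def endTwistEquiv (f : B →ₐ[k] A) :
    Module.End (B ⊗[k] Aᵐᵒᵖ) (Twist f) ≃ₐ[k] Subalgebra.centralizer k (f.range : Set A) := by
  refine AlgEquiv.symm (AlgEquiv.ofBijective
    { toFun := fun c =>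
        { toFun := fun x : Twist f => toA.symm (c.1 * toA x)
          map_add' := fun x y => by simp [mul_add]
          map_smul' := fun r x => ?_ }
      map_one' := LinearMap.ext fun x => by simp
      map_mul' := fun c d => LinearMap.ext fun x => by simp [mul_assoc]
      map_zero' := LinearMap.ext fun x => by simp
      map_add' := fun c d => LinearMap.ext fun x => by simp [add_mul]
      commutes' := fun r => LinearMap.ext fun x => by
        apply (toA (f := f)).injective
        simp [Algebra.algebraMap_eq_smul_one] } ⟨?_, ?_⟩)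
  · apply (toA (f := f)).injective
    simp only [RingHom.id_apply, toA_smul, LinearEquiv.apply_symm_apply]
    induction r using TensorProduct.induction_on with
    | zero => simp
    | tmul b a =>
      rw [bimodHom_tmul, bimodHom_tmul, ← mul_assoc, ← mul_assoc, ← mul_assoc,
        (Subalgebra.mem_centralizer_iff k).mp c.2 (f b) ⟨b, rfl⟩]
    | add p q hp hq => simp [map_add, mul_add, hp, hq]
  · intro c d h
    have h' := LinearMap.congr_fun h ((toA (f := f)).symm 1)
    apply Subtype.ext
    simpa using h'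
  · intro φ
    let ψ : A → A := fun x => toA (φ ((toA (f := f)).symm x))
    have hψ : ∀ (b : B) (a x : A), ψ (f b * x * a) = f b * ψ x * a := by
      intro b a x
      simp only [ψ, ← smul_eq, map_smul, toA_smul, bimodHom_tmul, unop_op]
    have hlin : ∀ x, ψ x = ψ 1 * x := fun x => by simpa using hψ 1 x 1
    refine ⟨⟨ψ 1, (Subalgebra.mem_centralizer_iff k).mpr ?_⟩, LinearMap.ext fun x => ?_⟩
    · rintro _ ⟨b, rfl⟩
      have := hψ b 1 1
      rw [mul_one, mul_one, mul_one, hlin (f b)] at this
      exact this.symm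
    · apply (toA (f := f)).injective
      have := hlin (toA x)
      simp only [ψ, LinearEquiv.symm_apply_apply] at this
      simpa using this.symm

omit [IsSimpleRing B] in
theorem centralizer_of_simple (B : Subalgebra k A) [IsSimpleRing B] :
    IsSimpleRing (Subalgebra.centralizer k (B : Set A)) ∧
      Module.finrank k A =
        Module.finrank k B * Module.finrank k (Subalgebra.centralizer k (B : Set A)) := by
  haveI := tensor_isSimpleRing k B Aᵐᵒᵖ
  obtain ⟨h1, h2⟩ := end_isSimpleRing_and_finrank k (B ⊗[k] Aᵐᵒᵖ) (Twist B.val)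
  have hset : (B.val.range : Set A) = (B : Set A) := by simp
  let e : Module.End (B ⊗[k] Aᵐᵒᵖ) (Twist B.val) ≃ₐ[k] Subalgebra.centralizer k (B : Set A) :=
    (endTwistEquiv B.val).trans (Subalgebra.equivOfEq _ _ (by rw [hset]))
  refine ⟨IsSimpleRing.of_ringEquiv e.toRingEquiv h1, ?_⟩
  rw [e.toLinearEquiv.finrank_eq, Module.finrank_tensorProduct,
    ← (opLinearEquiv k).finrank_eq (M := A)] at h2
  change _ = Module.finrank k A ^ 2 at h2
  have hpos : 0 < Module.finrank k A := Module.finrank_pos
  refine Nat.eq_of_mul_eq_mul_left hpos ?_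
  rw [← pow_two, ← h2]
  ring

omit [IsSimpleRing B] in
theorem double_centralizer (B : Subalgebra k A) [IsSimpleRing B] :
    Subalgebra.centralizer k (Subalgebra.centralizer k (B : Set A) : Set A) = B := by
  obtain ⟨hs, hd⟩ := centralizer_of_simple B
  haveI := hs
  obtain ⟨-, hd'⟩ := centralizer_of_simple (Subalgebra.centralizer k (B : Set A))
  have hpos : 0 < Module.finrank k (Subalgebra.centralizer k (B : Set A)) := Module.finrank_pos
  have hle : B ≤ Subalgebra.centralizer k (Subalgebra.centralizer k (B : Set A) : Set A) := by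
    intro b hb
    rw [Subalgebra.mem_centralizer_iff]
    intro c hc
    exact ((Subalgebra.mem_centralizer_iff k).mp hc b hb).symm
  refine (Subalgebra.eq_of_le_of_finrank_eq hle ?_).symm
  rw [hd] at hd'
  exact Nat.eq_of_mul_eq_mul_right hpos (hd'.trans (mul_comm _ _))

end Groth.Agent.H29CSA
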