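import Groth.Agent.H29CSA.Split
import Mathlib.FieldTheory.JacobsonNoether
import Mathlib.FieldTheory.SeparableClosure
import Mathlib.FieldTheory.Normal.Closure
import Mathlib.FieldTheory.Galois.Basic
import Mathlib.FieldTheory.IsSepClosed
import Mathlib.LinearAlgebra.FreeModule.StrongRankCondition

/-!
Maximal commutative subalgebras and separable splitting fields.
-/

set_option autoImplicit false
universe u v w

open TensorProduct MulOpposite

namespace Groth.Agent.H29CSA

variable {k : Type u} [Field k]

/-- `A` as a vector space over a subfield acting from the right. -/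
def RightVS {A : Type v} [Ring A] [Algebra k A] {L : Type w} [Field L] [Algebra k L]
    (_ι : L →ₐ[k] A) : Type v := A

section rightvs

variable {A : Type v} [Ring A] [Algebra k A] {L : Type w} [Field L] [Algebra k L] (ι : L →ₐ[k] A)

instance : AddCommGroup (RightVS ι) := inferInstanceAs (AddCommGroup A)
instance : Module k (RightVS ι) := inferInstanceAs (Module k A)
instance [FiniteDimensional k A] : FiniteDimensional k (RightVS ι) :=
  inferInstanceAs (FiniteDimensional k A)
instance [Nontrivial A] : Nontrivial (RightVS ι) := inferInstanceAs (Nontrivial A)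

/-- The identity `RightVS ι → A`. -/
def ofR : RightVS ι ≃ₗ[k] A := LinearEquiv.refl k A

instance : Module L (RightVS ι) where
  smul l x := (ofR ι).symm (ofR ι x * ι l)
  one_smul x := show (ofR ι).symm (ofR ι x * ι 1) = x by simp
  mul_smul a b x := show (ofR ι).symm (ofR ι x * ι (a * b)) =
      (ofR ι).symm (ofR ι ((ofR ι).symm (ofR ι x * ι b)) * ι a) by
    rw [LinearEquiv.apply_symm_apply, mul_assoc, ← map_mul, mul_comm a b]
  smul_zero a := show (ofR ι).symm (ofR ι 0 * ι a) = 0 by simp
  smul_add a x y := show (ofR ι).symm (ofR ι (x + y) * ι a) =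
      (ofR ι).symm (ofR ι x * ι a) + (ofR ι).symm (ofR ι y * ι a) by simp [add_mul]
  add_smul a b x := show (ofR ι).symm (ofR ι x * ι (a + b)) =
      (ofR ι).symm (ofR ι x * ι a) + (ofR ι).symm (ofR ι x * ι b) by simp [mul_add]
  zero_smul x := show (ofR ι).symm (ofR ι x * ι 0) = 0 by simp

theorem ofR_smul (l : L) (x : RightVS ι) : ofR ι (l • x) = ofR ι x * ι l :=
  LinearEquiv.apply_symm_apply _ _

instance : IsScalarTower k L (RightVS ι) :=
  ⟨fun c l x => (ofR ι).injective (by
    rw [ofR_smul, map_smul, map_smul, ofR_smul, mul_smul_comm])⟩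

/-- Left multiplication is linear over the subfield acting from the right. -/
noncomputable def leftMulHom : A →ₐ[k] Module.End L (RightVS ι) where
  toFun a :=
    { toFun := fun x => (ofR ι).symm (a * ofR ι x)
      map_add' := fun x y => by simp [mul_add]
      map_smul' := fun l x => (ofR ι).injective (by simp [ofR_smul, mul_assoc]) }
  map_one' := LinearMap.ext fun x => by simp
  map_mul' a b := LinearMap.ext fun x => by simp [mul_assoc]
  map_zero' := LinearMap.ext fun x => by simp
  map_add' a b := LinearMap.ext fun x => by simp [add_mul]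
  commutes' c := LinearMap.ext fun x => (ofR ι).injective (by
    simp [Algebra.algebraMap_eq_smul_one])

include ι in
theorem splits_of_subfield [IsSimpleRing A] [Algebra.IsCentral k A] [FiniteDimensional k A]
    (hd : Module.finrank k A = Module.finrank k L ^ 2) : Curves.Splits k A L := by
  haveI := baseChange_isSimpleRing (k := k) A L
  haveI : FiniteDimensional k L := FiniteDimensional.of_injective ι.toLinearMap ι.toRingHom.injective
  haveI : FiniteDimensional L (RightVS ι) := Module.Finite.of_restrictScalars_finite k L _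
  set n := Module.finrank L (RightVS ι) with hn
  have hmul : Module.finrank k L * n = Module.finrank k A :=
    (Module.finrank_mul_finrank k L (RightVS ι)).trans (ofR ι).finrank_eq
  have hpos : 0 < Module.finrank k L := Module.finrank_pos
  have hnL : n = Module.finrank k L := by
    rw [hd, pow_two] at hmul
    exact Nat.eq_of_mul_eq_mul_left hpos hmul
  let ψ : L ⊗[k] A →ₐ[L] Module.End L (RightVS ι) :=
    Algebra.TensorProduct.lift (Algebra.ofId L _) (leftMulHom ι)
      (fun l a => Algebra.commutes l (leftMulHom ι a))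
  refine ⟨n, by omega, ⟨(equivOfFinrankEq ψ ?_).trans
    (algEquivMatrix (Module.finBasisOfFinrankEq L (RightVS ι) hn.symm))⟩⟩
  rw [Module.finrank_baseChange, Module.finrank_linearMap, ← hn, hd, hnL, pow_two]

end rightvs

section divisionRing

variable (D : Type v) [DivisionRing D] [Algebra k D] [Algebra.IsCentral k D] [FiniteDimensional k D]

/-- A commutative subalgebra of a finite dimensional division algebra is a field. -/
noncomputable abbrev fieldOfComm (L : Subalgebra k D) (hcomm : ∀ x ∈ L, ∀ y ∈ L, x * y = y * x) :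
    Field L :=
  { divisionRingOfFiniteDimensional k L with
    mul_comm := fun a b => Subtype.ext (hcomm a.1 a.2 b.1 b.2) }

theorem centralizer_eq_of_maximal (L : Subalgebra k D) (hcomm : ∀ x ∈ L, ∀ y ∈ L, x * y = y * x)
    (hmax : ∀ L' : Subalgebra k D, (∀ x ∈ L', ∀ y ∈ L', x * y = y * x) → L ≤ L' → L' = L) :
    Subalgebra.centralizer k (L : Set D) = L := by
  refine le_antisymm (fun x hx => ?_) (fun x hx => (Subalgebra.mem_centralizer_iff k).mpr
    fun y hy => hcomm y hy x hx)
  have h : ∀ a ∈ insert x (L : Set D), ∀ b ∈ insert x (L : Set D), a * b = b * a := by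
    rintro a (rfl | ha) b (rfl | hb)
    · rfl
    · exact ((Subalgebra.mem_centralizer_iff k).mp hx b hb).symm
    · exact (Subalgebra.mem_centralizer_iff k).mp hx a ha
    · exact hcomm a ha b hb
  haveI := Algebra.isMulCommutative_adjoin k h
  have := hmax (Algebra.adjoin k (insert x (L : Set D)))
    (fun a ha b hb => congrArg Subtype.val
      (mul_comm' (⟨a, ha⟩ : Algebra.adjoin k (insert x (L : Set D))) ⟨b, hb⟩))
    (fun y hy => Algebra.subset_adjoin (Or.inr hy))
  rw [← this]
  exact Algebra.subset_adjoin (Or.inl rfl)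

theorem finrank_eq_sq_of_maximal (L : Subalgebra k D) (hcomm : ∀ x ∈ L, ∀ y ∈ L, x * y = y * x)
    (hmax : ∀ L' : Subalgebra k D, (∀ x ∈ L', ∀ y ∈ L', x * y = y * x) → L ≤ L' → L' = L) :
    Module.finrank k D = Module.finrank k L ^ 2 := by
  letI := fieldOfComm D L hcomm
  obtain ⟨-, h⟩ := centralizer_of_simple L
  rwa [centralizer_eq_of_maximal D L hcomm hmax, ← pow_two] at h

theorem exists_separable_maximal :
    ∃ L : Subalgebra k D, (∀ x ∈ L, ∀ y ∈ L, x * y = y * x) ∧
      (∀ L' : Subalgebra k D, (∀ x ∈ L', ∀ y ∈ L', x * y = y * x) → L ≤ L' → L' = L) ∧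
      Algebra.IsSeparable k L := by
  classical
  -- a commutative separable subalgebra of maximal dimension
  set P : ℕ → Prop := fun n => ∃ L : Subalgebra k D, (∀ x ∈ L, ∀ y ∈ L, x * y = y * x) ∧
    Algebra.IsSeparable k L ∧ Module.finrank k L = n with hP
  have h0 : P 1 := by
    refine ⟨⊥, ?_, ?_, Subalgebra.finrank_bot⟩
    · intro x hx y _
      obtain ⟨r, rfl⟩ := Algebra.mem_bot.mp hx
      exact Algebra.commutes r y
    · refine ⟨fun x => ?_⟩
      obtain ⟨r, hr⟩ := Algebra.mem_bot.mp x.2
      obtain rfl : algebraMap k (⊥ : Subalgebra k D) r = x := Subtype.ext hr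
      exact isSeparable_algebraMap r
  obtain ⟨L, hcomm, hsep, hL⟩ := Nat.findGreatest_spec (P := P) (n := Module.finrank k D)
    (Module.finrank_pos (R := k) (M := D)) h0
  refine ⟨L, hcomm, ?_, hsep⟩
  have hmaxsep : ∀ L' : Subalgebra k D, (∀ x ∈ L', ∀ y ∈ L', x * y = y * x) →
      Algebra.IsSeparable k L' → L ≤ L' → L' = L := by
    intro L' hc hs hle
    refine (Subalgebra.eq_of_le_of_finrank_le hle ?_).symm
    rw [hL]
    exact Nat.le_findGreatest L'.toSubmodule.finrank_le ⟨L', hc, hs, rfl⟩
  letI := fieldOfComm D L hcomm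
  set C := Subalgebra.centralizer k (L : Set D) with hC
  have hLC : L ≤ C := fun x hx => (Subalgebra.mem_centralizer_iff k).mpr fun y hy => hcomm y hy x hx
  suffices h : C = L by
    intro L' hc hle
    refine le_antisymm (fun x hx => ?_) hle
    rw [← h, hC, Subalgebra.mem_centralizer_iff]
    exact fun y hy => hc y (hle hy) x hx
  by_contra hne
  letI : DivisionRing C :=
    divisionRingOfFiniteDimensional k C
  have hLcenter : ∀ (l : L) (c : C), Subalgebra.inclusion hLC l * c = c * Subalgebra.inclusion hLC l :=
    fun l c => Subtype.ext ((Subalgebra.mem_centralizer_iff k).mp c.2 l.1 l.2)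
  letI : Algebra L C := (Subalgebra.inclusion hLC).toRingHom.toAlgebra' hLcenter
  haveI : IsScalarTower k L C := IsScalarTower.of_algebraMap_eq fun r => rfl
  haveI : FiniteDimensional L C := Module.Finite.of_restrictScalars_finite k L C
  haveI : Algebra.IsCentral L C := ⟨fun c hc => by
    have : (c : D) ∈ Subalgebra.centralizer k (C : Set D) :=
      (Subalgebra.mem_centralizer_iff k).mpr fun y hy =>
        congrArg Subtype.val (Subalgebra.mem_center_iff.mp hc ⟨y, hy⟩)
    replace this : (c : D) ∈ L :=
      SetLike.ext_iff.mp (double_centralizer L) (c : D) |>.mp this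
    exact Algebra.mem_bot.mpr ⟨⟨c, this⟩, rfl⟩⟩
  have hbt : (⊥ : Subalgebra L C) ≠ ⊤ := by
    intro h
    refine hne (le_antisymm (fun x hx => ?_) hLC)
    have : (⟨x, hx⟩ : C) ∈ (⊥ : Subalgebra L C) := h ▸ Algebra.mem_top
    obtain ⟨l, hl⟩ := Algebra.mem_bot.mp this
    have : (l : D) = x := congrArg Subtype.val hl
    exact this ▸ l.2
  obtain ⟨x, hxL, hxsep⟩ := JacobsonNoether.exists_separable_and_not_isCentral' hbt
  have h : ∀ a ∈ insert (x : D) (L : Set D), ∀ b ∈ insert (x : D) (L : Set D), a * b = b * a := by
    rintro a (rfl | ha) b (rfl | hb)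
    · rfl
    · exact ((Subalgebra.mem_centralizer_iff k).mp x.2 b hb).symm
    · exact (Subalgebra.mem_centralizer_iff k).mp x.2 a ha
    · exact hcomm a ha b hb
  set M := Algebra.adjoin k (insert (x : D) (L : Set D))
  have hcM : ∀ a ∈ M, ∀ b ∈ M, a * b = b * a := fun a ha b hb =>
    haveI := Algebra.isMulCommutative_adjoin k h
    congrArg Subtype.val (mul_comm' (⟨a, ha⟩ : M) ⟨b, hb⟩)
  have hLM : L ≤ M := fun y hy => Algebra.subset_adjoin (Or.inr hy)
  letI := fieldOfComm D M hcM
  have hMsep : Algebra.IsSeparable k M := by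
    letI : Algebra L M := (Subalgebra.inclusion hLM).toRingHom.toAlgebra
    haveI : IsScalarTower k L M := IsScalarTower.of_algebraMap_eq fun r => rfl
    haveI : FiniteDimensional L M := Module.Finite.of_restrictScalars_finite k L M
    let y : M := ⟨x.1, Algebra.subset_adjoin (Or.inl rfl)⟩
    have hMC : M ≤ C := Algebra.adjoin_le (by
      rintro a (rfl | ha)
      · exact x.2
      · exact hLC ha)
    let ι : M →ₐ[L] C :=
      { (Subalgebra.inclusion hMC).toRingHom with commutes' := fun l => rfl }
    have hy : IsSeparable L y := by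
      have h1 : minpoly L (ι y) = minpoly L y := minpoly.algHom_eq ι (Subalgebra.inclusion_injective hMC) y
      rw [show ι y = x from rfl] at h1
      rw [IsSeparable, ← h1]
      exact hxsep
    have htop : IntermediateField.adjoin L ({y} : Set M) = ⊤ := by
      rw [eq_top_iff]
      rintro ⟨a, ha⟩ -
      induction ha using Algebra.adjoin_induction with
      | mem a ha' =>
        rcases ha' with rfl | ha'
        · exact IntermediateField.subset_adjoin L _ rfl
        · exact IntermediateField.algebraMap_mem _ (⟨a, ha'⟩ : L)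
      | algebraMap r =>
        exact IntermediateField.algebraMap_mem _ (algebraMap k L r)
      | add a b ha' hb' iha ihb => exact add_mem (s := IntermediateField.adjoin L ({y} : Set M)) iha ihb
      | mul a b ha' hb' iha ihb => exact mul_mem (s := IntermediateField.adjoin L ({y} : Set M)) iha ihb
    haveI : Algebra.IsSeparable L M := by
      haveI := (IntermediateField.isSeparable_adjoin_simple_iff_isSeparable L M).mpr hy
      exact Algebra.IsSeparable.of_algHom L _
        ((IntermediateField.equivOfEq htop).trans IntermediateField.topEquiv).symm.toAlgHom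
    exact Algebra.IsSeparable.trans k L M
  have hML := hmaxsep M hcM hMsep hLM
  have : (x : D) ∈ L := hML ▸ Algebra.subset_adjoin (Or.inl rfl)
  exact hxL (Algebra.mem_bot.mpr ⟨⟨x.1, this⟩, Subtype.ext rfl⟩)

theorem exists_separable_splitting :
    ∃ (L : Type v) (_ : Field L) (_ : Algebra k L), FiniteDimensional k L ∧
      Algebra.IsSeparable k L ∧ Curves.Splits k D L := by
  obtain ⟨L, hc, hm, hs⟩ := exists_separable_maximal (k := k) D
  letI := fieldOfComm D L hc
  exact ⟨L, this, L.algebra, inferInstanceAs (FiniteDimensional k L), hs,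
    splits_of_subfield L.val (finrank_eq_sq_of_maximal D L hc hm)⟩

end divisionRing

section general

variable (A : Type v) [Ring A] [Algebra k A] [IsSimpleRing A] [Algebra.IsCentral k A]
  [FiniteDimensional k A]

theorem exists_divisionRing_matrix :
    ∃ (r : ℕ) (_ : NeZero r) (D : Type v) (_ : DivisionRing D) (_ : Algebra k D),
      Algebra.IsCentral k D ∧ FiniteDimensional k D ∧
        Nonempty (A ≃ₐ[k] Matrix (Fin r) (Fin r) D) := by
  haveI := IsArtinianRing.of_finite k A
  obtain ⟨r, hr, D, _, _, hfin, ⟨e⟩⟩ := IsSimpleRing.exists_algEquiv_matrix_divisionRing_finite k A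
  haveI := Algebra.IsCentral.of_algEquiv k _ _ e
  refine ⟨r, hr, D, inferInstance, inferInstance, ⟨fun d hd => ?_⟩, hfin, ⟨e⟩⟩
  obtain ⟨c, hc⟩ := (Algebra.IsCentral.mem_center_iff k).mp
    (show Matrix.scalar (Fin r) d ∈ Subalgebra.center k (Matrix (Fin r) (Fin r) D) from
      Subalgebra.mem_center_iff.mpr fun M => by
        ext i j
        simp [Matrix.scalar, Subalgebra.mem_center_iff.mp hd (M i j)])
  refine Algebra.mem_bot.mpr ⟨c, ?_⟩
  have := congrFun (congrFun hc 0) 0
  simpa [Matrix.algebraMap_matrix_apply] using this.symm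

theorem exists_separable_splitting_field (A : Type u) [Ring A] [Algebra k A] [IsSimpleRing A]
    [Algebra.IsCentral k A] [FiniteDimensional k A] :
    ∃ (k' : Type u) (_ : Field k') (_ : Algebra k k'), FiniteDimensional k k' ∧
      Algebra.IsSeparable k k' ∧ Curves.Splits k A k' := by
  obtain ⟨r, hr, D, _, _, hc, hf, ⟨e⟩⟩ := exists_divisionRing_matrix (k := k) A
  obtain ⟨L, _, _, hLf, hLs, hL⟩ := exists_separable_splitting (k := k) D
  exact ⟨L, inferInstance, inferInstance, hLf, hLs, splits_congr e.symm (splits_matrix D L r hr.ne hL)⟩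

theorem exists_separable_splitting_field' :
    ∃ (L : IntermediateField k (SeparableClosure k)), FiniteDimensional k L ∧
      Curves.Splits k A L := by
  obtain ⟨r, hr, D, _, _, hc, hf, ⟨e⟩⟩ := exists_divisionRing_matrix (k := k) A
  obtain ⟨L, _, _, hLf, hLs, hL⟩ := exists_separable_splitting (k := k) D
  let j : L →ₐ[k] SeparableClosure k := IsSepClosed.lift
  letI : Algebra L j.fieldRange := j.rangeRestrict.toRingHom.toAlgebra
  haveI : IsScalarTower k L j.fieldRange := IsScalarTower.of_algebraMap_eq fun c =>
    Subtype.ext (j.commutes c).symm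
  haveI : FiniteDimensional k j.fieldRange :=
    Module.Finite.of_surjective j.rangeRestrict.toLinearMap j.rangeRestrict_surjective
  exact ⟨j.fieldRange, inferInstance,
    splits_mono (K := L) (splits_congr e.symm (splits_matrix D L r hr.ne hL))⟩

theorem splits_separableClosure : Curves.Splits k A (SeparableClosure k) := by
  obtain ⟨L, -, hL⟩ := exists_separable_splitting_field' (k := k) A
  exact splits_mono (K := L) hL

theorem exists_galois_splitting :
    ∃ (k' : Type u) (_ : Field k') (_ : Algebra k k'), FiniteDimensional k k' ∧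
      IsGalois k k' ∧ Curves.Splits k A k' := by
  obtain ⟨L, hLf, hL⟩ := exists_separable_splitting_field' (k := k) A
  haveI := hLf
  set N := IntermediateField.normalClosure k L (SeparableClosure k) with hN
  have hle : L ≤ N := L.le_normalClosure
  letI : Algebra L N := (IntermediateField.inclusion hle).toRingHom.toAlgebra
  haveI : IsScalarTower k L N := IsScalarTower.of_algebraMap_eq fun c => rfl
  haveI : IsGalois k N := { }
  exact ⟨N, inferInstance, inferInstance, inferInstance, inferInstance, splits_mono (K := L) hL⟩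

end general

end Groth.Agent.H29CSA
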