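import Groth.Agent.H29CSA.Subfield
import Mathlib.Algebra.BrauerGroup.Defs

/-!
Brauer equivalence and splitting fields.
-/

set_option autoImplicit false
universe u v w

open TensorProduct MulOpposite

namespace Groth.Agent.H29CSA

variable {k : Type u} [Field k]

theorem splits_of_matrix (A : Type v) [Ring A] [Algebra k A] [IsSimpleRing A]
    [Algebra.IsCentral k A] [FiniteDimensional k A] (K : Type w) [Field K] [Algebra k K]
    {n : ℕ} (hn : n ≠ 0) (h : Curves.Splits k (Matrix (Fin n) (Fin n) A) K) :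
    Curves.Splits k A K := by
  classical
  obtain ⟨N, hN, ⟨e⟩⟩ := h
  haveI := baseChange_isSimpleRing (k := k) A K
  haveI := IsArtinianRing.of_finite K (K ⊗[k] A)
  obtain ⟨r, hr, E, _, _, hfin, ⟨eE⟩⟩ :=
    IsSimpleRing.exists_algEquiv_matrix_divisionRing_finite K (K ⊗[k] A)
  obtain ⟨e'⟩ := nonempty_baseChange_matrix (k := k) A K n
  let e1 : Matrix (Fin n) (Fin n) (K ⊗[k] A) ≃ₐ[K] Matrix (Fin n) (Fin n) (Matrix (Fin r) (Fin r) E) :=
    eE.mapMatrix
  let e2 : Matrix (Fin n) (Fin n) (Matrix (Fin r) (Fin r) E) ≃ₐ[K] Matrix (Fin n × Fin r) (Fin n × Fin r) E :=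
    Matrix.compAlgEquiv (Fin n) (Fin r) E K
  obtain ⟨φ⟩ := nonempty_algEquiv_of_matrix (k := K) E K (n * r) N (mul_ne_zero hn hr.ne) hN
    ((Matrix.reindexAlgEquiv K E finProdFinEquiv).symm.trans
      (e2.symm.trans (e1.symm.trans (e'.symm.trans e))))
  exact ⟨r, hr.ne, ⟨eE.trans φ.mapMatrix⟩⟩

theorem splits_op (A : Type v) [Ring A] [Algebra k A] (K : Type w) [Field K] [Algebra k K]
    (h : Curves.Splits k A K) : Curves.Splits k Aᵐᵒᵖ K := by
  obtain ⟨hc, hs, hf⟩ := csa_of_splits A K h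
  obtain ⟨n, hn, ⟨e⟩⟩ := h
  haveI : NeZero n := ⟨hn⟩
  haveI := baseChange_isSimpleRing (k := k) Aᵐᵒᵖ K
  let g : A →ₐ[k] Matrix (Fin n) (Fin n) K :=
    (e.toAlgHom.restrictScalars k).comp Algebra.TensorProduct.includeRight
  let f : Aᵐᵒᵖ →ₐ[k] Matrix (Fin n) (Fin n) K :=
    ((Matrix.transposeAlgEquiv (Fin n) k K).symm.toAlgHom).comp g.op
  let ψ : K ⊗[k] Aᵐᵒᵖ →ₐ[K] Matrix (Fin n) (Fin n) K :=
    Algebra.TensorProduct.lift (Algebra.ofId K _) f (fun l a => Algebra.commutes l (f a))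
  refine ⟨n, hn, ⟨equivOfFinrankEq ψ ?_⟩⟩
  rw [Module.finrank_baseChange, ← (opLinearEquiv k).finrank_eq (M := A),
    finrank_eq_sq_of_splits A K e, Module.finrank_matrix, Fintype.card_fin, Module.finrank_self,
    mul_one, pow_two]

variable (D : Type v) [DivisionRing D] [Algebra k D] [Algebra.IsCentral k D] [FiniteDimensional k D]
  (K : Type w) [Field K] [Algebra k K] [FiniteDimensional k K]

/-- A splitting field embeds in a matrix algebra over the division algebra. -/
theorem exists_algHom_matrix_of_splits (h : Curves.Splits k D K) :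
    ∃ (m : ℕ), m ≠ 0 ∧ Nonempty (K →ₐ[k] Matrix (Fin m) (Fin m) D) ∧
      Module.finrank k (Matrix (Fin m) (Fin m) D) = Module.finrank k K ^ 2 := by
  classical
  obtain ⟨n, hn, ⟨e⟩⟩ := splits_op D K h
  haveI : NeZero n := ⟨hn⟩
  have hdim : Module.finrank k D = n ^ 2 :=
    (opLinearEquiv k).finrank_eq.trans (finrank_eq_sq_of_splits Dᵐᵒᵖ K e)
  let rs : Module.End K (Fin n → K) →ₐ[k] Module.End k (Fin n → K) :=
    { toFun := fun f => f.restrictScalars k
      map_one' := rfl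
      map_mul' := fun _ _ => rfl
      map_zero' := rfl
      map_add' := fun _ _ => rfl
      commutes' := fun c => LinearMap.ext fun v => rfl }
  let actK : Dᵐᵒᵖ →ₐ[k] Module.End K (Fin n → K) :=
    ((Matrix.toLinAlgEquiv' (R := K) (n := Fin n)).toAlgHom.restrictScalars k).comp
      ((e.toAlgHom.restrictScalars k).comp Algebra.TensorProduct.includeRight)
  letI : Module Dᵐᵒᵖ (Fin n → K) := Module.compHom _ (rs.comp actK).toRingHom
  haveI : IsScalarTower k Dᵐᵒᵖ (Fin n → K) :=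
    ⟨fun c x v => LinearMap.congr_fun ((rs.comp actK).toLinearMap.map_smul c x) v⟩
  haveI : SMulCommClass Dᵐᵒᵖ k (Fin n → K) := ⟨fun x c v => ((rs.comp actK) x).map_smul c v⟩
  haveI : Module.Finite Dᵐᵒᵖ (Fin n → K) := Module.Finite.of_restrictScalars_finite k Dᵐᵒᵖ _
  set m := Module.finrank Dᵐᵒᵖ (Fin n → K) with hm
  have hnm : n * m = Module.finrank k K := by
    have h1 := Module.finrank_mul_finrank k Dᵐᵒᵖ (Fin n → K)
    have h2 : Module.finrank k (Fin n → K) = n * Module.finrank k K := by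
      rw [Module.finrank_pi_fintype, Finset.sum_const, Finset.card_univ, Fintype.card_fin, smul_eq_mul]
    rw [← (opLinearEquiv k).finrank_eq (M := D), hdim, h2, pow_two, mul_assoc] at h1
    exact Nat.eq_of_mul_eq_mul_left (Nat.pos_of_ne_zero hn) h1
  have hm0 : m ≠ 0 := by
    intro h0
    rw [h0, mul_zero] at hnm
    exact (Module.finrank_pos (R := k) (M := K)).ne hnm
  let toEnd : K →ₐ[k] Module.End Dᵐᵒᵖ (Fin n → K) :=
    { toFun := fun c =>
        { toFun := fun v => c • v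
          map_add' := fun v w => smul_add c v w
          map_smul' := fun x v => ((actK x).map_smul c v).symm }
      map_one' := LinearMap.ext fun v => one_smul K v
      map_mul' := fun a b => LinearMap.ext fun v => mul_smul a b v
      map_zero' := LinearMap.ext fun v => zero_smul K v
      map_add' := fun a b => LinearMap.ext fun v => add_smul a b v
      commutes' := fun c => LinearMap.ext fun v => algebraMap_smul K c v }
  let eB : (Fin n → K) ≃ₗ[Dᵐᵒᵖ] (Fin m → Dᵐᵒᵖ) :=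
    (Module.finBasisOfFinrankEq Dᵐᵒᵖ (Fin n → K) hm.symm).equivFun
  let eEnd : Module.End Dᵐᵒᵖ (Fin n → K) ≃ₐ[k] Matrix (Fin m) (Fin m) D :=
    ((eB.conjAlgEquiv k).trans (endVecAlgEquivMatrixEnd (Fin m) k Dᵐᵒᵖ Dᵐᵒᵖ)).trans
      ((AlgEquiv.moduleEndSelf k (A := Dᵐᵒᵖ)).symm.trans (AlgEquiv.opOp k D).symm).mapMatrix
  refine ⟨m, hm0, ⟨eEnd.toAlgHom.comp toEnd⟩, ?_⟩
  rw [Module.finrank_matrix, Fintype.card_fin, hdim, ← hnm]
  ring

theorem splits_of_algHom (A : Type v) [Ring A] [Algebra k A] [IsSimpleRing A]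
    [Algebra.IsCentral k A] [FiniteDimensional k A] (B : Type v) [Ring B] [Algebra k B]
    [IsSimpleRing B] [Algebra.IsCentral k B] [FiniteDimensional k B]
    {n m : ℕ} (hn : n ≠ 0) (hm : m ≠ 0)
    (e : Matrix (Fin n) (Fin n) A ≃ₐ[k] Matrix (Fin m) (Fin m) B)
    (ι : K →ₐ[k] B) (hd : Module.finrank k B = Module.finrank k K ^ 2) :
    Curves.Splits k A K :=
  splits_of_matrix A K hn (splits_congr e.symm (splits_matrix B K m hm (splits_of_subfield ι hd)))

end Groth.Agent.H29CSA
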