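import Mathlib.Algebra.Azumaya.Defs
import Mathlib.Algebra.Central.Basic
import Mathlib.RingTheory.SimpleModule.WedderburnArtin
import Mathlib.RingTheory.SimpleRing.Congr
import Mathlib.RingTheory.TensorProduct.Maps
import Mathlib.RingTheory.TwoSidedIdeal.Operations
import Mathlib.RingTheory.TwoSidedIdeal.Kernel
import Mathlib.LinearAlgebra.Basis.VectorSpace
import Mathlib.LinearAlgebra.TensorProduct.Basis
import Mathlib.LinearAlgebra.FiniteDimensional.Lemmas
import Mathlib.RingTheory.TensorProduct.Finite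
import Mathlib.LinearAlgebra.FreeModule.Finite.Matrix
import Mathlib.RingTheory.Flat.Basic

/-!
Central simple algebras: density and ideals of tensor products.
-/

set_option autoImplicit false
universe u v w

open TensorProduct MulOpposite

namespace Groth.Agent.H29CSA

variable (k : Type u) [Field k]

section density

variable (A : Type v) [Ring A] [Algebra k A] [IsSimpleRing A] [Algebra.IsCentral k A]

/-- Jacobson density for the bimodule `A`: every linear map agrees on a finite set with some
`x ↦ ∑ l x r`. -/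
theorem exists_mulLeftRight_eq (g : A →ₗ[k] A) (s : Finset A) :
    ∃ r : A ⊗[k] Aᵐᵒᵖ, ∀ m ∈ s, AlgHom.mulLeftRight k A r m = g m := by
  letI : Module (A ⊗[k] Aᵐᵒᵖ) A := TensorProduct.Algebra.module
  have hsmul : ∀ (a : A) (b : Aᵐᵒᵖ) (x : A), (a ⊗ₜ[k] b) • x = a * x * b.unop := fun a b x => by
    change TensorProduct.Algebra.moduleAux _ _ = _
    simp [TensorProduct.Algebra.moduleAux, ← mul_assoc]
  haveI : IsSimpleModule (A ⊗[k] Aᵐᵒᵖ) A := by
    rw [isSimpleModule_iff_toSpanSingleton_surjective]
    refine ⟨inferInstance, fun m hm => ?_⟩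
    let J : TwoSidedIdeal A := TwoSidedIdeal.mk'
      (LinearMap.range (LinearMap.toSpanSingleton (A ⊗[k] Aᵐᵒᵖ) A m) : Set A)
      (zero_mem _) (fun h h' => add_mem h h') (fun h => neg_mem h)
      (fun {x y} h => by
        have := Submodule.smul_mem _ (x ⊗ₜ[k] (1 : Aᵐᵒᵖ)) h
        rwa [hsmul, unop_one, mul_one] at this)
      (fun {x y} h => by
        have := Submodule.smul_mem _ ((1 : A) ⊗ₜ[k] op y) h
        rwa [hsmul, unop_op, one_mul] at this)
    have hmJ : m ∈ J := by
      rw [TwoSidedIdeal.mem_mk']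
      exact ⟨1, one_smul _ m⟩
    have h1 : (1 : A) ∈ J := IsSimpleRing.one_mem_of_ne_zero_mem J hm hmJ
    intro y
    have hy : y ∈ J := by simpa using J.mul_mem_left y 1 h1
    rw [TwoSidedIdeal.mem_mk'] at hy
    exact hy
  have hEnd : ∀ f : Module.End (A ⊗[k] Aᵐᵒᵖ) A, ∃ c : k, ∀ x, f x = c • x := by
    intro f
    have h1 : ∀ x, f x = x * f 1 := fun x => by
      have := f.map_smul (x ⊗ₜ[k] (1 : Aᵐᵒᵖ)) 1
      rwa [hsmul, hsmul, unop_one, mul_one, mul_one, mul_one] at this
    have h2 : ∀ x, f x = f 1 * x := fun x => by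
      have := f.map_smul ((1 : A) ⊗ₜ[k] op x) 1
      rwa [hsmul, hsmul, unop_op, one_mul, one_mul, one_mul] at this
    obtain ⟨c, hc⟩ := (Algebra.IsCentral.mem_center_iff k).mp
      (Subalgebra.mem_center_iff.mpr fun x => (h1 x).symm.trans (h2 x) :
        f 1 ∈ Subalgebra.center k A)
    exact ⟨c, fun x => by rw [h2 x, hc, Algebra.smul_def]⟩
  let g' : Module.End (Module.End (A ⊗[k] Aᵐᵒᵖ) A) A :=
    { toFun := g
      map_add' := g.map_add
      map_smul' := fun f x => by
        obtain ⟨c, hc⟩ := hEnd f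
        simp only [Module.End.smul_def, hc, map_smul, RingHom.id_apply] }
  obtain ⟨r, hr⟩ := jacobson_density g' s
  refine ⟨r, fun m hm => ?_⟩
  exact (hr m hm).symm

theorem mulLeftRight_surjective [FiniteDimensional k A] :
    Function.Surjective (AlgHom.mulLeftRight k A) := by
  classical
  intro g
  let b := Module.finBasis k A
  obtain ⟨r, hr⟩ := exists_mulLeftRight_eq k A g (Finset.univ.image b)
  exact ⟨r, b.ext fun i => hr _ (Finset.mem_image_of_mem _ (Finset.mem_univ i))⟩

theorem mulLeftRight_bijective [FiniteDimensional k A] :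
    Function.Bijective (AlgHom.mulLeftRight k A) := by
  refine ⟨?_, mulLeftRight_surjective k A⟩
  have h : Module.finrank k (A ⊗[k] Aᵐᵒᵖ) = Module.finrank k (Module.End k A) := by
    rw [Module.finrank_tensorProduct, Module.finrank_linearMap,
      ← (opLinearEquiv k).finrank_eq (M := A)]
  exact (LinearMap.injective_iff_surjective_of_finrank_eq_finrank
    (f := (AlgHom.mulLeftRight k A).toLinearMap) h).mpr (mulLeftRight_surjective k A)

end density

section ideal

variable (A : Type v) [Ring A] [Algebra k A]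
variable (K : Type w) [Ring K] [Algebra k K] [IsSimpleRing K] [Algebra.IsCentral k K]

theorem twoSidedIdeal_eq_span (I : TwoSidedIdeal (A ⊗[k] K)) :
    I = TwoSidedIdeal.span ((fun a : A => a ⊗ₜ[k] (1 : K)) '' {a : A | a ⊗ₜ[k] (1 : K) ∈ I}) := by
  classical
  refine le_antisymm (fun x hx => ?_) (TwoSidedIdeal.span_le.mpr ?_)
  swap
  · rintro _ ⟨a, ha, rfl⟩
    exact ha
  let b := Module.Free.chooseBasis k K
  set s := (TensorProduct.equivFinsuppOfBasisRight b x)
  have hxs : x = ∑ i ∈ s.support, (s i) ⊗ₜ[k] b i := by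
    conv_lhs => rw [← (TensorProduct.equivFinsuppOfBasisRight b).symm_apply_apply x]
    rw [TensorProduct.equivFinsuppOfBasisRight_symm_apply]
    rfl
  have hΦ : ∀ r : K ⊗[k] Kᵐᵒᵖ, ∀ y ∈ I, LinearMap.lTensor A (AlgHom.mulLeftRight k K r) y ∈ I := by
    intro r y hy
    induction r using TensorProduct.induction_on with
    | zero => simp
    | tmul l r' =>
      have h' : LinearMap.lTensor A (AlgHom.mulLeftRight k K (l ⊗ₜ r')) y =
          ((1 : A) ⊗ₜ[k] l) * y * ((1 : A) ⊗ₜ[k] r'.unop) := by
        clear hy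
        induction y using TensorProduct.induction_on with
        | zero => simp
        | tmul a c => simp [Algebra.TensorProduct.tmul_mul_tmul]
        | add p q hp hq => rw [map_add, hp, hq, mul_add, add_mul]
      rw [h']
      exact I.mul_mem_right _ _ (I.mul_mem_left _ _ hy)
    | add p q hp hq =>
      rw [map_add, LinearMap.lTensor_add, LinearMap.add_apply]
      exact I.add_mem hp hq
  rw [hxs]
  refine sum_mem fun i hi => ?_
  have hmem : (s i) ⊗ₜ[k] (1 : K) ∈ I := by
    obtain ⟨r, hr⟩ := exists_mulLeftRight_eq k K (b.constr k fun j => if j = i then 1 else 0)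
      (s.support.image b)
    have := hΦ r x hx
    rw [hxs, map_sum, Finset.sum_eq_single i] at this
    · rwa [LinearMap.lTensor_tmul, hr _ (Finset.mem_image_of_mem _ hi), b.constr_basis, if_pos rfl]
        at this
    · intro j hj hji
      rw [LinearMap.lTensor_tmul, hr _ (Finset.mem_image_of_mem _ hj), b.constr_basis, if_neg hji,
        tmul_zero]
    · exact fun h => absurd hi h
  have := (TwoSidedIdeal.span ((fun a : A => a ⊗ₜ[k] (1 : K)) '' {a : A | a ⊗ₜ[k] (1 : K) ∈ I})).mul_mem_right
    _ ((1 : A) ⊗ₜ[k] b i) (TwoSidedIdeal.subset_span ⟨s i, hmem, rfl⟩)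
  simpa [Algebra.TensorProduct.tmul_mul_tmul] using this

theorem tensor_isSimpleRing [IsSimpleRing A] : IsSimpleRing (A ⊗[k] K) := by
  haveI : Nontrivial (A ⊗[k] K) :=
    Algebra.TensorProduct.nontrivial_of_algebraMap_injective_of_flat_left k A K
      (algebraMap k K).injective
  refine IsSimpleRing.of_eq_bot_or_eq_top fun I => ?_
  let J : TwoSidedIdeal A := I.comap (Algebra.TensorProduct.includeLeft (S := k)).toRingHom
  rcases eq_or_ne J ⊥ with hJ | hJ
  · left
    rw [twoSidedIdeal_eq_span k A K I, eq_bot_iff, TwoSidedIdeal.span_le]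
    rintro _ ⟨a, ha, rfl⟩
    have : a ∈ J := (TwoSidedIdeal.mem_comap _).mpr ha
    rw [hJ, TwoSidedIdeal.mem_bot] at this
    simp [this]
  · right
    have h1 : (1 : A) ∈ J := IsSimpleRing.one_mem_of_ne_bot J hJ
    rw [← TwoSidedIdeal.one_mem_iff]
    simpa [Algebra.TensorProduct.one_def] using! (TwoSidedIdeal.mem_comap _).mp h1

end ideal

end Groth.Agent.H29CSA
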